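import Cfsg.Agent.Lib.Spor.Cos.McLOut.Defs

/-! Data and checks for the automorphisms of a group on 275 points. -/

set_option autoImplicit false
set_option maxRecDepth 100000
set_option maxHeartbeats 4000000

namespace Cfsg.Agent.Spor.Cos.McLOut

open Triple

theorem cls_b6 : allBlock (chkConj actA ptsA fixPt [0] 40 clsU clsK 2835) 2835 256 6 = true := by decide +kernel

theorem cls_b7 : allBlock (chkConj actA ptsA fixPt [0] 40 clsU clsK 2835) 2835 256 7 = true := by decide +kernel

theorem cls_b8 : allBlock (chkConj actA ptsA fixPt [0] 40 clsU clsK 2835) 2835 256 8 = true := by decide +kernel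

theorem cls_b9 : allBlock (chkConj actA ptsA fixPt [0] 40 clsU clsK 2835) 2835 256 9 = true := by decide +kernel

theorem cls_b10 : allBlock (chkConj actA ptsA fixPt [0] 40 clsU clsK 2835) 2835 256 10 = true := by decide +kernel

theorem cls_b11 : allBlock (chkConj actA ptsA fixPt [0] 40 clsU clsK 2835) 2835 256 11 = true := by decide +kernel


end Cfsg.Agent.Spor.Cos.McLOut
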