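import Cfsg.Agent.Lib.Spor.Cos.McLOut.ClsChk0
import Cfsg.Agent.Lib.Spor.Cos.McLOut.ClsChk1

/-! Data and checks for the automorphisms of a group on 275 points. -/

set_option autoImplicit false
set_option maxRecDepth 100000
set_option maxHeartbeats 4000000

namespace Cfsg.Agent.Spor.Cos.McLOut

open Triple

theorem cls_ok : ∀ i < 2835, (chkConj actA ptsA fixPt [0] 40 clsU clsK 2835) i = true := by
  refine of_blocks (size := 256) (b := 12) (by decide) (by decide) fun j hj => ?_
  interval_cases j
  · exact cls_b0
  · exact cls_b1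
  · exact cls_b2
  · exact cls_b3
  · exact cls_b4
  · exact cls_b5
  · exact cls_b6
  · exact cls_b7
  · exact cls_b8
  · exact cls_b9
  · exact cls_b10
  · exact cls_b11

end Cfsg.Agent.Spor.Cos.McLOut
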