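import Cfsg.Agent.Lib.Spor.Cos.McLOut.InvChk0

/-! Data and checks for the automorphisms of a group on 275 points. -/

set_option autoImplicit false
set_option maxRecDepth 100000
set_option maxHeartbeats 4000000

namespace Cfsg.Agent.Spor.Cos.McLOut

open Triple

theorem inv_ok : ∀ i < 844, (chkClosedInv) i = true := by
  refine of_blocks (size := 128) (b := 7) (by decide) (by decide) fun j hj => ?_
  interval_cases j
  · exact inv_b0
  · exact inv_b1
  · exact inv_b2
  · exact inv_b3
  · exact inv_b4
  · exact inv_b5
  · exact inv_b6

end Cfsg.Agent.Spor.Cos.McLOut
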