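import Cfsg.Agent.Lib.Spor.Cos.McLOut.LabelChk0

/-! Data and checks for the automorphisms of a group on 275 points. -/

set_option autoImplicit false
set_option maxRecDepth 100000
set_option maxHeartbeats 4000000

namespace Cfsg.Agent.Spor.Cos.McLOut

open Triple

theorem label_ok : ∀ i < 1225, (chkLabel) i = true := by
  refine of_blocks (size := 256) (b := 5) (by decide) (by decide) fun j hj => ?_
  interval_cases j
  · exact label_b0
  · exact label_b1
  · exact label_b2
  · exact label_b3
  · exact label_b4

end Cfsg.Agent.Spor.Cos.McLOut
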