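import Cfsg.Agent.Lib.Spor.Cos.McLOut.SylChk0

/-! Data and checks for the automorphisms of a group on 275 points. -/

set_option autoImplicit false
set_option maxRecDepth 100000
set_option maxHeartbeats 4000000

namespace Cfsg.Agent.Spor.Cos.McLOut

open Triple

theorem syl_ok : ∀ i < 128, (chkSyl) i = true := by
  refine of_blocks (size := 32) (b := 4) (by decide) (by decide) fun j hj => ?_
  interval_cases j
  · exact syl_b0
  · exact syl_b1
  · exact syl_b2
  · exact syl_b3

end Cfsg.Agent.Spor.Cos.McLOut
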