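import Cfsg.Agent.Lib.Spor.Cos.McLOut.Rep
import Cfsg.Agent.Lib.Spor.Cos.McLOut.SylChk
import Cfsg.Agent.Lib.Spor.Cos.McLOut.InvChk
import Cfsg.Agent.Lib.Spor.Cos.McLOut.LabelChk
import Cfsg.Agent.Lib.Spor.Cos.McLOut.ClsChk
import Cfsg.Agent.Lib.Spor.Cos.Double
import Mathlib.GroupTheory.SpecificGroups.Alternating.Simple

/-!
The involutions of a group on 275 points and their centralisers.
-/

set_option autoImplicit false
set_option maxRecDepth 100000
set_option maxHeartbeats 1000000

namespace Cfsg.Agent.Spor.Cos.McLOut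

open Triple

theorem eq_of_same {v w : List ℕ} (h : sameW actA ptsA v w = true) : ev g v = ev g w := eq_of_sameW homA det h

theorem ne_of_not_agree {v w : List ℕ} (hv : ∀ s ∈ v, s < 5) (hw : ∀ s ∈ w, s < 5)
    (h : agree actA ptsA v w = false) : ev g v ≠ ev g w := fun e => by
  have := agree_of_eq (g := g) homA pts_lt hv hw e
  rw [this] at h
  exact Bool.noConfusion h

theorem ev_zero : ev g [0] = g 0 := mul_one _

theorem g_ne {s : ℕ} (hs : s < 5) : g s ≠ 1 := by
  have h : ∀ k < 5, agree actA ptsA [k] [] = false := by decide +kernel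
  have := ne_of_not_agree (v := [s]) (w := []) (by simpa using hs) (by simp) (h s hs)
  simpa [ev] using this

theorem z_order : orderOf (g 0) = 2 := orderOf_eq_prime (hp := ⟨Nat.prime_two⟩) (by rw [sq, g_sq]) (g_ne (by norm_num))

/-- The centraliser. -/
abbrev C : Subgroup H := Subgroup.centralizer ({g 0} : Set H)

theorem comm_le {G' : List (List ℕ)} (h : (G'.all fun w => sameW actA ptsA (w ++ [0]) ([0] ++ w)) = true) :
    val g G' ≤ C := by
  refine (Subgroup.closure_le _).2 ?_
  rintro _ ⟨w, hw, rfl⟩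
  rw [SetLike.mem_coe, Subgroup.mem_centralizer_singleton_iff, ← ev_zero, ← ev_append, ← ev_append]
  exact eq_of_same (List.all_eq_true.1 h w hw)

theorem fix_chk : ∀ p < 275, (!(Nat.beq (actA.go [0] p) p) || fixL.any (Nat.beq p)) = true := by decide +kernel

/-- The fixed point. -/
def ptX : Fin actA.N := ⟨fixPt, by decide⟩

theorem card_C_le : Nat.card C ≤ 40320 := by
  have htr : ∀ p, ∃ y : H, pi y ptX = p := fun p => by
    obtain ⟨a, ha⟩ := trA p
    obtain ⟨b, hb⟩ := trA ptX
    exact ⟨a * b⁻¹, by rw [map_mul, map_inv, Equiv.Perm.mul_apply, ← hb, Equiv.Perm.inv_def, Equiv.symm_apply_apply, ha]⟩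
  have h := card_centralizer_le (fun s _ => g_sq s) homA pts_lt (x := ptX) (zw := [0])
    (by decide +kernel) (by decide +kernel) cls_ok (L := fixL) fix_chk (stab pi ptX) fun y => mem_stab
  rw [card_stab htr (k := 3265920) card_H, ev_zero, show fixL.length = 35 from rfl] at h
  exact Nat.le_of_mul_le_mul_right (h.trans (by norm_num)) (by norm_num : 0 < 2835)

/-- The points fixed by the involution. -/
def Fix0 : Set (Fin actA.N) := {p | pi (g 0) p = p}

theorem fix_mem {p : Fin actA.N} (hp : p ∈ Fix0) : ∃ a < 35, fixL.getD a 0 = p := by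
  have h := fix_chk p p.2
  have e : actA.go [0] p = p := by
    rw [← homA.apply_ev [0] (show ∀ s ∈ [0], s < actA.n by decide), ev_zero]
    exact congrArg Fin.val hp
  rw [e, Nat.beq_refl, Bool.not_true, Bool.false_or, List.any_eq_true] at h
  obtain ⟨b, hb, hbe⟩ := h
  obtain ⟨a, ha, rfl⟩ := List.mem_iff_getElem.1 hb
  exact ⟨a, ha, by rw [List.getD_eq_getElem _ _ ha]; exact (Nat.eq_of_beq_eq_true hbe).symm⟩

theorem mem_fix {c : H} (hc : c ∈ C) {p : Fin actA.N} : pi c p ∈ Fix0 ↔ p ∈ Fix0 := by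
  show pi (g 0) (pi c p) = pi c p ↔ pi (g 0) p = p
  rw [← Equiv.Perm.mul_apply, ← map_mul, ← Subgroup.mem_centralizer_singleton_iff.1 hc, map_mul,
    Equiv.Perm.mul_apply, (pi c).injective.eq_iff]

/-- Whether a pair of fixed points is in one of eight sets. -/
noncomputable def bit (p q i : ℕ) : ℕ := (setT.at (fixI.at p * 35 + fixI.at q) >>> i) % 2

/-- An element moves the sets as a permutation does. -/
def Moves (y : H) (σ : Equiv.Perm (Fin 8)) : Prop :=
  ∀ p ∈ Fix0, ∀ q ∈ Fix0, ∀ i : Fin 8, bit (pi y p) (pi y q) (σ i) = bit p q i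

theorem Moves.mul {a b : H} (hb : b ∈ C) {σ τ : Equiv.Perm (Fin 8)} (h : Moves a σ) (h' : Moves b τ) :
    Moves (a * b) (σ * τ) := fun p hp q hq i => by
  rw [map_mul, Equiv.Perm.mul_apply, Equiv.Perm.mul_apply, Equiv.Perm.mul_apply,
    h _ ((mem_fix hb).2 hp) _ ((mem_fix hb).2 hq), h' p hp q hq]

theorem Moves.one : Moves 1 1 := fun p _ q _ i => by simp

theorem Moves.inv {a : H} (ha : a ∈ C) {σ : Equiv.Perm (Fin 8)} (h : Moves a σ) : Moves a⁻¹ σ⁻¹ := fun p hp q hq i => by
  have := h (pi a⁻¹ p) ((mem_fix (inv_mem ha)).2 hp) (pi a⁻¹ q) ((mem_fix (inv_mem ha)).2 hq) (σ⁻¹ i)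
  simp only [← Equiv.Perm.mul_apply, ← map_mul, mul_inv_cancel, map_one, Equiv.Perm.one_apply] at this
  exact this.symm

theorem sep_chk : ∀ i < 8, ∀ j < 8, (Nat.beq i j || (List.range 1225).any fun n =>
    !(Nat.beq ((setT.at n >>> i) % 2) ((setT.at n >>> j) % 2))) = true := by decide +kernel

theorem fixI_chk : ∀ a < 35, fixI.at (fixL.getD a 0) = a ∧ fixL.getD a 0 < 275 ∧
    actA.go [0] (fixL.getD a 0) = fixL.getD a 0 := by decide +kernel

/-- A listed fixed point. -/
def fixAt {a : ℕ} (ha : a < 35) : Fin actA.N := ⟨fixL.getD a 0, (fixI_chk a ha).2.1⟩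

theorem fixAt_mem {a : ℕ} (ha : a < 35) : fixAt ha ∈ Fix0 := by
  refine Fin.ext ?_
  rw [← ev_zero, homA.apply_ev [0] (show ∀ s ∈ [0], s < actA.n by decide)]
  exact (fixI_chk a ha).2.2

theorem Moves.unique {y : H} (hy : y ∈ C) {σ τ : Equiv.Perm (Fin 8)} (h : Moves y σ) (h' : Moves y τ) : σ = τ := by
  refine Equiv.ext fun i => ?_
  by_contra hne
  have hs := sep_chk (σ i) (σ i).2 (τ i) (τ i).2
  simp only [Bool.or_eq_true, List.any_eq_true, List.mem_range, Bool.not_eq_true'] at hs
  rcases hs with hs | ⟨n, hn, hs⟩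
  · exact hne (Fin.ext (Nat.eq_of_beq_eq_true hs))
  have ha : n / 35 < 35 := by omega
  have hb : n % 35 < 35 := by omega
  have hp := (mem_fix (inv_mem hy)).2 (fixAt_mem ha)
  have hq := (mem_fix (inv_mem hy)).2 (fixAt_mem hb)
  have e := (h _ hp _ hq i).trans (h' _ hp _ hq i).symm
  simp only [← Equiv.Perm.mul_apply (pi y), ← map_mul, mul_inv_cancel, map_one, Equiv.Perm.one_apply, bit, fixAt,
    (fixI_chk _ ha).1, (fixI_chk _ hb).1, Nat.div_add_mod'] at e
  rw [e, Nat.beq_refl] at hs
  exact Bool.noConfusion hs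

theorem Moves.z : Moves (g 0) 1 := fun p hp q hq i => by
  rw [show pi (g 0) p = p from hp, show pi (g 0) q = q from hq, Equiv.Perm.one_apply]

theorem cen_comm : (cenG.all fun w => sameW actA ptsA (w ++ [0]) ([0] ++ w)) = true := by decide +kernel

theorem lbl_inv : ∀ p < 8, actL.chkInv p = true := by decide +kernel

theorem cenG_moves {s : ℕ} (hs : s < 4) : Moves (ev g (cenG.getD s [])) (actL.perm s) := by
  intro p hp q hq i
  obtain ⟨a, ha, ea⟩ := fix_mem hp
  obtain ⟨b, hb, eb⟩ := fix_mem hq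
  have h := label_ok (a * 35 + b) (by omega)
  simp only [chkLabel, force_eq, List.all_eq_true, List.mem_range, show (a * 35 + b) / 35 = a by omega,
    show (a * 35 + b) % 35 = b by omega, ea, eb] at h
  have hl : ∀ t ∈ cenG.getD s [], t < actA.n := by
    have hk : ∀ k < 4, ∀ t ∈ cenG.getD k [], t < 5 := by decide +kernel
    exact hk s hs
  have e := Nat.eq_of_beq_eq_true (h s hs i i.2)
  change bit _ _ ((actL.perm s (i : Fin actL.N) : Fin actL.N) : ℕ) = _
  rw [bit, bit, homA.apply_ev _ hl, homA.apply_ev _ hl, actL.perm_apply lbl_inv hs i, ← e, ← ea, ← eb,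
    (fixI_chk a ha).1, (fixI_chk b hb).1]

/-- The subgroup generated by the involution and the listed words. -/
noncomputable abbrev K : Subgroup H := val g ([0] :: cenG)

theorem K_le : K ≤ C := by
  refine comm_le (G' := [0] :: cenG) ?_
  rw [List.all_cons, cen_comm, Bool.and_true]
  decide +kernel

theorem z_mem : g 0 ∈ K := by
  have := mem_val (g := g) (List.mem_cons_self (a := [0]) (l := cenG))
  rwa [ev_zero] at this

theorem exists_moves {y : H} (hy : y ∈ K) : ∃ σ, Moves y σ := by
  induction hy using Subgroup.closure_induction with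
  | mem x hx =>
    obtain ⟨w, hw, rfl⟩ := hx
    rcases List.mem_cons.1 hw with rfl | hw
    · exact ⟨1, by rw [ev_zero]; exact Moves.z⟩
    · obtain ⟨s, hs, rfl⟩ := List.mem_iff_getElem.1 hw
      refine ⟨actL.perm s, ?_⟩
      rw [← List.getD_eq_getElem _ [] hs]
      exact cenG_moves hs
  | one => exact ⟨1, Moves.one⟩
  | mul a b _ hb iha ihb =>
    obtain ⟨σ, hσ⟩ := iha
    obtain ⟨τ, hτ⟩ := ihb
    exact ⟨σ * τ, hσ.mul (K_le hb) hτ⟩
  | inv a ha iha =>
    obtain ⟨σ, hσ⟩ := iha
    exact ⟨σ⁻¹, hσ.inv (K_le ha)⟩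

/-- The action on the eight sets. -/
noncomputable def rho : K →* Equiv.Perm (Fin 8) :=
  MonoidHom.mk' (fun y => (exists_moves y.2).choose) fun a b =>
    (exists_moves (a * b).2).choose_spec.unique (K_le (a * b).2)
      ((exists_moves a.2).choose_spec.mul (K_le b.2) (exists_moves b.2).choose_spec)

theorem rho_eq {y : K} {σ : Equiv.Perm (Fin 8)} (h : Moves y σ) : rho y = σ :=
  (exists_moves y.2).choose_spec.unique (K_le y.2) h

/-- The involution in the subgroup. -/
noncomputable def zK : K := ⟨g 0, z_mem⟩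

theorem zK_order : orderOf zK = 2 := (Subgroup.orderOf_coe zK).symm.trans z_order

theorem zK_ne : zK ≠ 1 := fun e => by simpa [e] using zK_order

theorem rho_z : rho zK = 1 := rho_eq Moves.z

theorem lev8 : LevR actL.perm actL (MonoidHom.id _) (singles (List.range 4)) 20160 ptsL := by
  have hom : actL.Hom actL.perm (MonoidHom.id (Equiv.Perm (Fin actL.N))) := ⟨lbl_inv, fun _ => rfl⟩
  have k5 : l5.Ok actL l5W 4 := ⟨by decide +kernel, by decide, by decide +kernel⟩
  have k4 : l4.Ok actL l4W 3 := ⟨by decide +kernel, by decide, by decide +kernel⟩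
  have k3 : l3.Ok actL l3W 5 := ⟨by decide +kernel, by decide, by decide +kernel⟩
  have k2 : l2.Ok actL l2W 2 := ⟨by decide +kernel, by decide, by decide +kernel⟩
  have k1 : l1.Ok actL l1W 1 := ⟨by decide +kernel, by decide, by decide +kernel⟩
  have k0 : l0.Ok actL l0W 0 := ⟨by decide +kernel, by decide, by decide +kernel⟩
  exact LevR.step hom (LevR.step hom (LevR.step hom (LevR.step hom (LevR.step hom (LevR.step hom LevR.nil k5
    (by decide +kernel) (by decide +kernel) (by decide +kernel)) k4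
    (by decide +kernel) (by decide +kernel) (by decide +kernel)) k3
    (by decide +kernel) (by decide +kernel) (by decide +kernel)) k2
    (by decide +kernel) (by decide +kernel) (by decide +kernel)) k1
    (by decide +kernel) (by decide +kernel) (by decide +kernel)) k0
    (by decide +kernel) (by decide +kernel) (by decide +kernel)

theorem range_ge : 20160 ≤ Nat.card rho.range := by
  refine lev8.le.trans (Subgroup.card_le_of_le ((Subgroup.closure_le _).2 ?_))
  rintro _ ⟨w, hw, rfl⟩
  obtain ⟨s, hs, rfl⟩ := List.mem_map.1 hw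
  have hs' : s < 4 := List.mem_range.1 hs
  have hm : ev g (cenG.getD s []) ∈ K := by
    refine mem_val (List.mem_cons_of_mem _ ?_)
    rw [List.getD_eq_getElem _ _ (show s < cenG.length from hs')]
    exact List.getElem_mem _
  refine ⟨⟨_, hm⟩, ?_⟩
  rw [rho_eq (y := ⟨_, hm⟩) (σ := actL.perm s) (cenG_moves hs')]
  exact (mul_one _).symm

theorem zpowers_le_ker : Subgroup.zpowers zK ≤ rho.ker := Subgroup.zpowers_le.2 (MonoidHom.mem_ker.2 rho_z)

theorem card_facts : Nat.card K = 40320 ∧ K = C ∧ rho.ker = Subgroup.zpowers zK ∧ Nat.card rho.range = 20160 := by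
  have h1 := rho.ker.index_mul_card
  rw [Subgroup.index_ker] at h1
  have h2 : 2 ≤ Nat.card rho.ker := by
    refine le_trans (le_of_eq ?_) (Subgroup.card_le_of_le zpowers_le_ker)
    rw [Nat.card_zpowers, zK_order]
  have h3 : Nat.card K ≤ 40320 := (Subgroup.card_le_of_le K_le).trans card_C_le
  have h4 := range_ge
  have hk : Nat.card rho.ker ≤ 2 := by
    by_contra hlt
    have : 20160 * 3 ≤ Nat.card rho.range * Nat.card rho.ker := Nat.mul_le_mul h4 (by omega)
    omega
  have hk2 : Nat.card rho.ker = 2 := le_antisymm hk h2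
  rw [hk2] at h1
  refine ⟨by omega, Subgroup.eq_of_le_of_card_ge K_le (by have := card_C_le; omega), ?_, by omega⟩
  exact (Subgroup.eq_of_le_of_card_ge zpowers_le_ker (by rw [Nat.card_zpowers, zK_order, hk2])).symm

theorem range_alt : rho.range = alternatingGroup (Fin 8) := by
  refine Equiv.Perm.eq_alternatingGroup_of_index_eq_two ?_
  have h := rho.range.index_mul_card
  rw [card_facts.2.2.2, Nat.card_perm, Nat.card_fin, show (8 : ℕ).factorial = 40320 from rfl] at h
  omega

theorem center_K : Subgroup.center K = Subgroup.zpowers zK := by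
  refine le_antisymm (fun y hy => ?_) (Subgroup.zpowers_le.2 (Subgroup.mem_center_iff.2 fun b => ?_))
  · rw [← card_facts.2.2.1, MonoidHom.mem_ker]
    have hm : rho y ∈ alternatingGroup (Fin 8) := range_alt ▸ ⟨y, rfl⟩
    have hc : (⟨rho y, hm⟩ : alternatingGroup (Fin 8)) ∈ Subgroup.center (alternatingGroup (Fin 8)) := by
      refine Subgroup.mem_center_iff.2 fun u => ?_
      obtain ⟨b, hb⟩ : (u : Equiv.Perm (Fin 8)) ∈ rho.range := range_alt.symm ▸ u.2
      refine Subtype.ext ?_
      show (u : Equiv.Perm (Fin 8)) * rho y = rho y * u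
      rw [← hb, ← map_mul, ← map_mul, Subgroup.mem_center_iff.1 hy b]
    rw [alternatingGroup.center_eq_bot (by simp)] at hc
    exact congrArg Subtype.val (Subgroup.mem_bot.1 hc)
  · exact Subtype.ext (Subgroup.mem_centralizer_singleton_iff.1 (K_le b.2))

theorem sq_chk : (sameW actA ptsA (sqW ++ [0]) ([0] ++ sqW) && sameW actA ptsA (sqW ++ sqW) [0]) = true := by
  decide +kernel

theorem double_K : Cfsg.IsNonsplitDoubleCover K (alternatingGroup (Fin 8)) := by
  have hZ : Nat.card (Subgroup.center K) = 2 := by rw [center_K, Nat.card_zpowers, zK_order]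
  refine ⟨hZ, ?_, fun L hL => ?_⟩
  · exact ⟨((QuotientGroup.quotientMulEquivOfEq (center_K.trans card_facts.2.2.1.symm)).trans
      (QuotientGroup.quotientKerEquivRange rho)).trans (MulEquiv.subgroupCongr range_alt)⟩
  · have hi : L.index = 2 := by rw [hL.index_eq_card, hZ]
    have h := sq_chk
    rw [Bool.and_eq_true] at h
    have hc : ev g sqW ∈ K := by
      rw [card_facts.2.1, Subgroup.mem_centralizer_singleton_iff, ← ev_zero, ← ev_append, ← ev_append]
      exact eq_of_same h.1
    have h2 : (⟨ev g sqW, hc⟩ : K) * ⟨ev g sqW, hc⟩ = zK :=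
      Subtype.ext (by
        show ev g sqW * ev g sqW = g 0
        rw [← ev_append, eq_of_same h.2, ev_zero])
    have hm : zK ∈ L := h2 ▸ Subgroup.mul_self_mem_of_index_two hi _
    have hzc : zK ∈ Subgroup.center K := center_K ▸ Subgroup.mem_zpowers zK
    exact zK_ne (Subgroup.disjoint_def.1 hL.disjoint hzc hm)

theorem listed : (∀ y ∈ val g sylG, ∃ i < 128, ev g (decWord 40 (sylU.at i)) = y) ∧ Nat.card (val g sylG) = 128 := by
  have hh : ∀ i < 128, chkClosedList actA ptsA 40 sylU sylK sylStep sylG 128 i = true := fun i hi => by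
    have := syl_ok i hi
    simp only [chkSyl, Bool.and_eq_true] at this
    exact this.1.1
  obtain ⟨mem, hcard⟩ := closedList homA pts_lt det hh (i0 := sylOne) (by decide +kernel)
    (eq_of_same (w := []) (by decide +kernel))
  refine ⟨mem, hcard fun i hi => ?_⟩
  have hp := syl_ok i hi
  simp only [chkSyl, Bool.and_eq_true, List.all_eq_true] at hp
  rw [eq_of_same hp.1.2.2, ev_flatten, List.map_map]
  refine list_prod_mem fun y hy => ?_
  obtain ⟨k, hk, rfl⟩ := List.mem_map.1 hy
  have hk' : k < sylG.length := Nat.le_of_ble_eq_true (hp.1.2.1 k hk)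
  exact mem_val (w := sylG.getD k []) (by rw [List.getD_eq_getElem _ _ hk']; exact List.getElem_mem _)

theorem syl_inv {y : H} (hy : y ∈ val g sylG) (hy2 : y * y = 1) (hne : y ≠ 1) :
    (∃ c : H, c * g 0 * c⁻¹ = y) ∧ ∃ j < invW.length, y = ev g (invW.getD j []) := by
  obtain ⟨i, hi, rfl⟩ := listed.1 y hy
  have h := syl_ok i hi
  simp only [chkSyl, chkClosedList, force_eq, Bool.and_eq_true, Bool.or_eq_true, Bool.not_eq_true',
    List.all_eq_true] at h
  have hl : ∀ s ∈ decWord 40 (sylU.at i), s < 5 := fun s hs => Nat.le_of_ble_eq_true (h.1.1.1.1.1 s hs)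
  rcases h.2 with (h2 | h2) | h2
  · refine absurd ?_ (ne_of_not_agree (fun s hs => (List.mem_append.1 hs).elim (hl s) (hl s)) (by simp) h2)
    rw [ev_append]
    exact hy2
  · refine absurd ?_ hne
    rw [Nat.eq_of_beq_eq_true h2]
    exact eq_of_same (w := []) (by decide +kernel)
  · obtain ⟨hc, hj, hs⟩ := h2
    refine ⟨⟨ev g (decWord 20 (conjU.at i)), ?_⟩, _, Nat.le_of_ble_eq_true hj, eq_of_same hs⟩
    have hcl : ∀ s ∈ decWord 20 (conjU.at i), s < 5 := fun s hs' => by
      simp only [sameW, Bool.and_eq_true, List.all_append, List.all_eq_true] at hc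
      exact Nat.le_of_ble_eq_true (hc.1.1.1 s hs')
    have e := eq_of_same hc
    rwa [ev_append, ev_append, ev_reverse (fun s _ => g_sq s) _ hcl, ← mul_assoc, ev_zero] at e

theorem fact_two : (898128000 : ℕ).factorization 2 = 7 := by
  rw [show (898128000 : ℕ) = 2 ^ 7 * 7016625 by norm_num, Nat.factorization_mul (by norm_num) (by norm_num),
    Finsupp.add_apply, Nat.Prime.factorization_pow Nat.prime_two, Finsupp.single_eq_same,
    Nat.factorization_eq_zero_of_not_dvd (show ¬ 2 ∣ 7016625 by norm_num)]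

/-- Every involution is conjugate to the first generator. -/
theorem conj_z {x : H} (hx : orderOf x = 2) : IsConj (g 0) x := by
  have : Fact (Nat.Prime 2) := ⟨Nat.prime_two⟩
  let S : Sylow 2 H := Sylow.ofCard (val g sylG) (by rw [listed.2, card_H, fact_two]; norm_num)
  obtain ⟨R, hR⟩ := (IsPGroup.of_card (n := 1) (by rw [Nat.card_zpowers, hx, pow_one]) :
    IsPGroup 2 (Subgroup.zpowers x)).exists_le_sylow
  obtain ⟨c, hc⟩ := MulAction.exists_smul_eq H R S
  have hm : c * x * c⁻¹ ∈ val g sylG := by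
    have : MulAut.conj c x ∈ (c • R : Sylow 2 H) := ⟨x, hR (Subgroup.mem_zpowers x), rfl⟩
    rw [hc] at this
    exact this
  have hx2 : x * x = 1 := by
    have := pow_orderOf_eq_one x
    rwa [hx, sq] at this
  have hne : x ≠ 1 := fun e => by simp [e] at hx
  obtain ⟨⟨d, hd⟩, -⟩ := syl_inv hm (by
    rw [show c * x * c⁻¹ * (c * x * c⁻¹) = c * (x * x) * c⁻¹ by group, hx2]; group) (by simpa using hne)
  refine isConj_iff.2 ⟨c⁻¹ * d, ?_⟩
  rw [show c⁻¹ * d * g 0 * (c⁻¹ * d)⁻¹ = c⁻¹ * (d * g 0 * d⁻¹) * c by group, hd]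
  group

theorem cls (φ : MulAut H) : IsConj (g 0) (φ (g 0)) := conj_z (by rw [MulEquiv.orderOf_eq, z_order])

theorem inv_comm : (invW.all fun w => sameW actA ptsA (w ++ [0]) ([0] ++ w)) = true := by decide +kernel

theorem inv_len : invW.length = 211 := by decide +kernel

/-- The listed involutions are permuted by the centraliser. -/
theorem inv_closed {c : H} (hc : c ∈ C) :
    ∀ j < invW.length, ∃ k < invW.length, c * ev g (invW.getD j []) * c⁻¹ = ev g (invW.getD k []) := by
  rw [← card_facts.2.1] at hc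
  replace hc : c ∈ Subgroup.closure {x | ∃ w ∈ [0] :: cenG, ev g w = x} := hc
  rw [← Subgroup.mem_toSubmonoid, Subgroup.closure_toSubmonoid_of_finite] at hc
  induction hc using Submonoid.closure_induction with
  | mem x hx =>
    obtain ⟨w, hw, rfl⟩ := hx
    intro j hj
    rcases List.mem_cons.1 hw with rfl | hw
    · refine ⟨j, hj, ?_⟩
      have e := eq_of_same (List.all_eq_true.1 inv_comm _ (List.getElem_mem hj))
      rw [ev_append, ev_append] at e
      rw [List.getD_eq_getElem _ _ hj, ← e, mul_inv_cancel_right]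
    · obtain ⟨t, ht, rfl⟩ := List.mem_iff_getElem.1 hw
      have ht' : t < 4 := ht
      have hj' : j < 211 := inv_len ▸ hj
      have h := inv_ok (t * 211 + j) (by omega)
      simp only [chkClosedInv, force_eq, Bool.and_eq_true, inv_len, show (t * 211 + j) / 211 = t by omega,
        show (t * 211 + j) % 211 = j by omega] at h
      refine ⟨_, inv_len.symm ▸ Nat.le_of_ble_eq_true h.1, ?_⟩
      have hl : ∀ s ∈ cenG.getD t [], s < 5 := fun s hs => by
        have h2 := h.2
        simp only [sameW, Bool.and_eq_true, List.all_append, List.all_eq_true] at h2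
        exact Nat.le_of_ble_eq_true (h2.1.1.1 s hs)
      simp only [inv_len]
      rw [← eq_of_same h.2, ev_append, ev_append, ev_reverse (fun s _ => g_sq s) _ hl, ← mul_assoc,
        List.getD_eq_getElem _ _ ht]
  | one => exact fun j hj => ⟨j, hj, by group⟩
  | mul a b _ _ ha hb =>
    intro j hj
    obtain ⟨k, hk, e⟩ := hb j hj
    obtain ⟨l, hl, e'⟩ := ha k hk
    exact ⟨l, hl, by rw [← e', ← e]; group⟩

theorem invol (x : H) (hx : x * x = 1) (hne : x ≠ 1) (hxz : x * g 0 = g 0 * x) :
    ∃ j < invW.length, x = ev g (invW.getD j []) := by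
  have : Fact (Nat.Prime 2) := ⟨Nat.prime_two⟩
  have hle : val g sylG ≤ C := comm_le (by decide +kernel)
  have hC : Nat.card C = 40320 := card_facts.2.1 ▸ card_facts.1
  have h7 : (40320 : ℕ).factorization 2 = 7 := by
    rw [show (40320 : ℕ) = 2 ^ 7 * 315 by norm_num, Nat.factorization_mul (by norm_num) (by norm_num),
      Finsupp.add_apply, Nat.Prime.factorization_pow Nat.prime_two, Finsupp.single_eq_same,
      Nat.factorization_eq_zero_of_not_dvd (show ¬ 2 ∣ 315 by norm_num)]
  let S : Sylow 2 C := Sylow.ofCard ((val g sylG).subgroupOf C)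
    (by rw [Nat.card_congr (Subgroup.subgroupOfEquivOfLe hle).toEquiv, listed.2, hC, h7]; norm_num)
  let xC : C := ⟨x, Subgroup.mem_centralizer_singleton_iff.2 hxz⟩
  have hx2 : orderOf xC = 2 := orderOf_eq_prime (by rw [sq]; exact Subtype.ext hx) fun e => hne (congrArg Subtype.val e)
  obtain ⟨R, hR⟩ := (IsPGroup.of_card (n := 1) (by rw [Nat.card_zpowers, hx2, pow_one]) :
    IsPGroup 2 (Subgroup.zpowers xC)).exists_le_sylow
  obtain ⟨c, hc⟩ := MulAction.exists_smul_eq C R S
  have hm : (c : H) * x * (c : H)⁻¹ ∈ val g sylG := by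
    have : MulAut.conj c xC ∈ (c • R : Sylow 2 C) := ⟨xC, hR (Subgroup.mem_zpowers xC), rfl⟩
    rw [hc] at this
    exact this
  obtain ⟨-, j, hj, e⟩ := syl_inv hm (by
    rw [show (c : H) * x * (c : H)⁻¹ * (c * x * (c : H)⁻¹) = c * (x * x) * (c : H)⁻¹ by group, hx]; group)
    (by simpa using hne)
  obtain ⟨k, hk, e'⟩ := inv_closed (inv_mem c.2) j hj
  exact ⟨k, hk, by rw [← e', ← e]; group⟩

theorem double_C : Cfsg.IsNonsplitDoubleCover C (alternatingGroup (Fin 8)) :=
  isNonsplitDoubleCover_congr (MulEquiv.subgroupCongr card_facts.2.1) double_K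

end Cfsg.Agent.Spor.Cos.McLOut
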