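import Cfsg.Agent.Lib.Spor.Leech.PermRep
import Cfsg.Agent.Lib.Spor.Leech.McLSimple
import Cfsg.Agent.Lib.Spor.Leech.ThreePairs
import Cfsg.Agent.Lib.Spor.Cos.Simple
import Cfsg.Agent.Lib.Spor.Cos.McLOut.ActData
import Cfsg.Prelude.Def_Spor_Conway

/-!
The action of a vector pair stabiliser on 275 vectors by tables.
-/

set_option autoImplicit false
set_option maxRecDepth 100000
set_option maxHeartbeats 1000000

namespace Cfsg.Agent.Spor.Cos.McLOut

open Cfsg Leech

/-- The group. -/
abbrev H : Subgroup Co0 := fixSub mclL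

/-- The generators. -/
noncomputable def g : ℕ → H := genW mclL opW

theorem op_gens : chkGens mclL opW = true := by decide +kernel

theorem act_inv : ∀ k < 275, actA.chkInv k = true := by decide +kernel

theorem act_img : ∀ k < 275, chkImg mclC actA opW k = true := by
  refine of_blocks (size := 70) (b := 4) (by decide) (by decide) fun j hj => ?_
  interval_cases j <;> decide +kernel

theorem exists_pi : ∃ π : H →* Equiv.Perm (Fin actA.N), actA.Hom g π :=
  exists_perm mcl_checks actA rfl opW rfl op_gens act_inv act_img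

/-- The action. -/
noncomputable def pi : H →* Equiv.Perm (Fin actA.N) := exists_pi.choose

theorem homA : actA.Hom g pi := exists_pi.choose_spec

theorem H_eq : H = MulAction.stabilizer Co0 ThreePairs.bU ⊓ MulAction.stabilizer Co0 ThreePairs.bP := by
  ext h
  show Fixes mclL h ↔ h • ThreePairs.bU = ThreePairs.bU ∧ h • ThreePairs.bP = ThreePairs.bP
  constructor
  · exact fun hf => ⟨hf _ (List.mem_cons_self ..) ThreePairs.bU (mkL_val _ _),
      hf _ (List.mem_cons_of_mem _ (List.mem_cons_self ..)) ThreePairs.bP (mkL_val _ _)⟩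
  · rintro ⟨hu, hw⟩ bc hbc v hv
    rcases List.mem_cons.1 hbc with rfl | hbc
    · rwa [show v = ThreePairs.bU from Subtype.ext (hv.trans (mkL_val _ _).symm)]
    rcases List.mem_cons.1 hbc with rfl | hbc
    · rwa [show v = ThreePairs.bP from Subtype.ext (hv.trans (mkL_val _ _).symm)]
    · simp at hbc

theorem isMcL : IsMcL ↥H := by
  have e : H = MulAction.stabilizer Co0 ThreePairs.bP ⊓
      MulAction.stabilizer Co0 (ThreePairs.bU - ThreePairs.bP) := by
    rw [H_eq]
    ext h
    show h • ThreePairs.bU = ThreePairs.bU ∧ h • ThreePairs.bP = ThreePairs.bP ↔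
      h • ThreePairs.bP = ThreePairs.bP ∧ h • (ThreePairs.bU - ThreePairs.bP) = ThreePairs.bU - ThreePairs.bP
    rw [co_sub]
    exact ⟨fun ⟨a, b⟩ => ⟨b, by rw [a, b]⟩, fun ⟨b, c⟩ => ⟨by rw [b] at c; exact sub_left_injective c, b⟩⟩
  rw [e]
  refine McLSimple.isMcL (by decide +kernel) ⟨?_, ?_⟩ <;> decide +kernel

theorem card_H : Nat.card H = 898128000 := isMcL.2

theorem isSimple : IsSimpleGroup H := isMcL.1

instance : Finite H := Nat.finite_of_card_ne_zero (by rw [card_H]; norm_num)

theorem pi_injective : Function.Injective pi := by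
  have := isSimple
  rw [← MonoidHom.ker_eq_bot_iff]
  refine (pi.normal_ker.eq_bot_or_eq_top).resolve_right fun htop => ?_
  have h1 : pi (g 0) = 1 := MonoidHom.mem_ker.1 (htop ▸ Subgroup.mem_top _)
  rw [homA.gen] at h1
  have h2 : ∀ p : Fin actA.N, (actA.perm 0 p : ℕ) = p := fun p => by rw [h1]; rfl
  have h3 : ¬ ∀ p < 275, actA.im p 0 = p := by decide +kernel
  refine h3 fun p hp => ?_
  rw [← actA.perm_apply act_inv (by decide) ⟨p, hp⟩]
  exact h2 ⟨p, hp⟩

theorem g_sq (s : ℕ) : g s * g s = 1 :=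
  pi_injective (by rw [map_mul, homA.gen, actA.perm_sq, map_one])

theorem lev1 : LevR g actA pi o1W 3265920 [21, 36, 40, 53] := by
  have ok : ∀ {O : Orb} {W : List (List ℕ)} {x : ℕ}, Act.lettersOk actA.n W = true → 0 < O.m →
      (∀ j < O.m, O.chkEnt actA W x j = true) → O.Ok actA W x := fun a b c => ⟨a, b, c⟩
  have k4 : o4.Ok actA o4W 53 := ok (by decide +kernel) (by decide) (by decide +kernel)
  have k3 : o3.Ok actA o3W 40 := ok (by decide +kernel) (by decide) (by decide +kernel)
  have k2 : o2.Ok actA o2W 36 := ok (by decide +kernel) (by decide) (by decide +kernel)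
  have k1 : o1.Ok actA o1W 21 := ok (by decide +kernel) (by decide) (by decide +kernel)
  exact LevR.step homA (LevR.step homA (LevR.step homA (LevR.step homA LevR.nil k4
      (by decide +kernel) (by decide +kernel) (by decide +kernel)) k3
      (by decide +kernel) (by decide +kernel) (by decide +kernel)) k2
      (by decide +kernel) (by decide +kernel) (by decide +kernel)) k1
      (by decide +kernel) (by decide +kernel) (by decide +kernel)

theorem ok0 : o0.Ok actA o0W 4 := ⟨by decide +kernel, by decide, by decide +kernel⟩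

theorem lev : LevR g actA pi (singles (List.range 5)) 898128000 ptsA :=
  LevR.step homA lev1 ok0 (by decide +kernel) (by decide +kernel) (by decide +kernel)

theorem val_top : val g (singles (List.range 5)) = ⊤ :=
  Subgroup.eq_top_of_le_card _ (card_H.trans_le lev.le)

theorem det (y : H) (h : ∀ q : Fin actA.N, (q : ℕ) ∈ ptsA → pi y q = q) : y = 1 :=
  lev.fix (by rw [val_top, Nat.card_congr Subgroup.topEquiv.toEquiv, card_H]) y
    (val_top ▸ Subgroup.mem_top y) h

theorem pts_lt : ∀ p ∈ ptsA, p < actA.N := by decide +kernel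

theorem g_gen : Subgroup.closure {x | ∃ s < 5, g s = x} = ⊤ := by
  refine top_le_iff.1 (val_top ▸ (Subgroup.closure_le _).2 ?_)
  rintro _ ⟨w, hw, rfl⟩
  obtain ⟨s, hs, rfl⟩ := List.mem_map.1 hw
  exact Subgroup.subset_closure ⟨s, List.mem_range.1 hs, by simp [ev]⟩

/-- The base point. -/
def base0 : Fin actA.N := ⟨4, by decide⟩

theorem trA (p : Fin actA.N) : ∃ y : H, pi y base0 = p := exists_apply_eq homA ok0 rfl p

theorem stab_val : val g o1W = stab pi base0 := by
  refine Subgroup.eq_of_le_of_card_ge ((Subgroup.closure_le _).2 ?_)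
    ((card_stab trA (k := 3265920) card_H).trans_le lev1.le)
  rintro _ ⟨w, hw, rfl⟩
  exact mem_stab.2 (homA.apply_ev_eq (ws := o1W) (by decide +kernel) (by decide +kernel) hw)

/-- The group of the definitions inside the automorphisms of the lattice. -/
noncomputable def equivPair :
    ↥Cfsg.Spor.McL ≃* ↥(MulAction.stabilizer Co0 Cfsg.Spor.leechV ⊓ MulAction.stabilizer Co0 (-Cfsg.Spor.leechU)) where
  toFun g := ⟨⟨g.1, g.2.1.1⟩, g.2.1.2, by
    show (⟨g.1, g.2.1.1⟩ : Co0) • (-Cfsg.Spor.leechU) = -Cfsg.Spor.leechU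
    rw [co_neg]; exact congrArg Neg.neg g.2.2⟩
  invFun g := ⟨g.1.1, ⟨⟨g.1.2, g.2.1⟩, by
    have h : (g.1 : Co0) • (-Cfsg.Spor.leechU) = -Cfsg.Spor.leechU := g.2.2
    rw [co_neg, neg_inj] at h
    exact h⟩⟩
  left_inv _ := rfl
  right_inv _ := rfl
  map_mul' _ _ := rfl

theorem partner_facts : sqNorm (Cfsg.Spor.leechV : Vec) = 48 ∧
    sqNorm ((-Cfsg.Spor.leechU : leechLattice) : Vec) = 32 ∧
    dotInt (Cfsg.Spor.leechV : Vec) ((-Cfsg.Spor.leechU : leechLattice) : Vec) = 24 := by
  rw [show ((-Cfsg.Spor.leechU : leechLattice) : Vec) = fun p => -Cfsg.Spor.vecU p from rfl,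
    show (Cfsg.Spor.leechV : Vec) = Cfsg.Spor.vecV from rfl]
  decide +kernel

theorem nonempty_equiv : Nonempty (↥Cfsg.Spor.McL ≃* H) := by
  obtain ⟨hv, hn, hd⟩ := partner_facts
  obtain ⟨k, k1, k2⟩ := ThreePairs.to_pair hv ⟨hn, hd⟩
  exact ⟨(equivPair.trans (StabSimple.pairEquiv k k1 k2)).trans (MulEquiv.subgroupCongr H_eq.symm)⟩

/-- An isomorphism with the represented group. -/
noncomputable def equivMcL : ↥Cfsg.Spor.McL ≃* H := nonempty_equiv.some

end Cfsg.Agent.Spor.Cos.McLOut
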