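import Cfsg.Agent.Lib.Spor.Cos.OutTree
import Cfsg.Agent.Lib.Spor.Cos.SubInv
import Cfsg.Agent.Lib.Spor.Cos.McLOut.ActData
import Cfsg.Agent.Lib.Spor.Cos.McLOut.CenData
import Cfsg.Agent.Lib.Spor.Cos.McLOut.SylData
import Cfsg.Agent.Lib.Spor.Cos.McLOut.TriData
import Cfsg.Agent.Lib.Spor.Cos.McLOut.ClsData

/-! Data and checks for the automorphisms of a group on 275 points. -/

set_option autoImplicit false
set_option maxRecDepth 100000
set_option maxHeartbeats 4000000

namespace Cfsg.Agent.Spor.Cos.McLOut

open Triple

/-- Letters packed four bits each. -/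
noncomputable def decFour (fuel E : ℕ) : List ℕ :=
  Nat.rec (motive := fun _ => ℕ → List ℕ) (fun _ => [])
    (fun _ r E => bif Nat.beq E 0 then [] else (E % 16 - 1) :: r (E >>> 4)) fuel E

/-- The checks of an element of the Sylow subgroup. -/
noncomputable def chkSyl (i : ℕ) : Bool :=
  chkClosedList actA ptsA 40 sylU sylK sylStep sylG 128 i &&
  (fun L : List ℕ => (L.all fun t => Nat.blt t sylG.length) &&
      sameW actA ptsA (decWord 40 (sylU.at i)) (L.map fun t => sylG.getD t []).flatten) (decFour 10 (sylPath.at i)) &&
  (fun w : List ℕ => !(agree actA ptsA (w ++ w) []) || Nat.beq i sylOne ||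
      ((fun c : List ℕ => sameW actA ptsA (c ++ ([0] ++ c.reverse)) w) (decWord 20 (conjU.at i)) &&
        force (sylInv.at i) fun j => Nat.blt j invW.length && sameW actA ptsA w (invW.getD j [])))
      (decWord 40 (sylU.at i))

/-- The conjugate of a listed involution is listed. -/
noncomputable def chkClosedInv (n : ℕ) : Bool :=
  (fun c : List ℕ => force (invIdx.at n) fun j => Nat.blt j invW.length &&
    sameW actA ptsA (c ++ (invW.getD (n % invW.length) [] ++ c.reverse)) (invW.getD j []))
    (cenG.getD (n / invW.length) [])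

/-- The labels of a pair of fixed points are moved as the eight sets are. -/
noncomputable def chkLabel (n : ℕ) : Bool :=
  force (fixL.getD (n / 35) 0) fun p => force (fixL.getD (n % 35) 0) fun q =>
    (List.range actL.n).all fun s => force (actA.go (cenG.getD s []) p) fun p' =>
      force (actA.go (cenG.getD s []) q) fun q' => force (setT.at n) fun E =>
        force (setT.at (fixI.at p' * 35 + fixI.at q')) fun E' => (List.range 8).all fun i =>
          Nat.beq ((E >>> i) % 2) ((E' >>> actL.im i s) % 2)

/-- The tree. -/
def treeD : Tree5.Data := ⟨nodeW, nodeD, invW, conjW, relW, edgeT⟩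

/-- The check of an edge of the tree. -/
noncomputable def chkTree (e : ℕ) : Bool := Tree5.chkEdge treeD actA ptsA e

end Cfsg.Agent.Spor.Cos.McLOut
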