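import Cfsg.Agent.Lib.Spor.Cos.McLOut.Defs

/-! Data and checks for the automorphisms of a group on 275 points. -/

set_option autoImplicit false
set_option maxRecDepth 100000
set_option maxHeartbeats 4000000

namespace Cfsg.Agent.Spor.Cos.McLOut

open Triple

theorem inv_b0 : allBlock (chkClosedInv) 844 128 0 = true := by decide +kernel

theorem inv_b1 : allBlock (chkClosedInv) 844 128 1 = true := by decide +kernel

theorem inv_b2 : allBlock (chkClosedInv) 844 128 2 = true := by decide +kernel

theorem inv_b3 : allBlock (chkClosedInv) 844 128 3 = true := by decide +kernel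

theorem inv_b4 : allBlock (chkClosedInv) 844 128 4 = true := by decide +kernel

theorem inv_b5 : allBlock (chkClosedInv) 844 128 5 = true := by decide +kernel

theorem inv_b6 : allBlock (chkClosedInv) 844 128 6 = true := by decide +kernel


end Cfsg.Agent.Spor.Cos.McLOut
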