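import Cfsg.Agent.Lib.Spor.Cos.McLOut.TreeChk0
import Cfsg.Agent.Lib.Spor.Cos.McLOut.TreeChk1
import Cfsg.Agent.Lib.Spor.Cos.McLOut.TreeChk2

/-! Data and checks for the automorphisms of a group on 275 points. -/

set_option autoImplicit false
set_option maxRecDepth 100000
set_option maxHeartbeats 4000000

namespace Cfsg.Agent.Spor.Cos.McLOut

open Triple

theorem tree_ok : ∀ i < 3587, (chkTree) i = true := by
  refine of_blocks (size := 256) (b := 15) (by decide) (by decide) fun j hj => ?_
  interval_cases j
  · exact tree_b0
  · exact tree_b1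
  · exact tree_b2
  · exact tree_b3
  · exact tree_b4
  · exact tree_b5
  · exact tree_b6
  · exact tree_b7
  · exact tree_b8
  · exact tree_b9
  · exact tree_b10
  · exact tree_b11
  · exact tree_b12
  · exact tree_b13
  · exact tree_b14

end Cfsg.Agent.Spor.Cos.McLOut
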