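import Cfsg.Agent.Lib.Spor.Cos.McLOut.Cent
import Cfsg.Agent.Lib.Spor.Cos.McLOut.TreeChk

/-!
The outer automorphism group of a group on 275 points.
-/

set_option autoImplicit false
set_option maxRecDepth 100000
set_option maxHeartbeats 1000000

namespace Cfsg.Agent.Spor.Cos.McLOut

open Triple

theorem comm_chk : ∀ s < 4, sameW actA ptsA [s + 1, s] [s, s + 1] = true := by decide +kernel

theorem node_facts : ∀ i < nodeW.length,
    (i < 17 ∨ (nodeW.getD i []).length = 5) ∧ ((nodeW.getD i []).length = 5 → i = top0 ∨ i = top1) := by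
  decide +kernel

theorem top0_chk : ∀ s < 5, sameW actA ptsA ((nodeW.getD top0 []).getD s []) [s] = true := by decide +kernel

theorem top1_chk : ∀ s < 5,
    sameW actA ptsA (imgC ++ ((nodeW.getD top1 []).getD s [] ++ imgC.reverse)) (imgW.getD s []) = true := by
  decide +kernel

/-- Up to conjugation an automorphism sends the generators to one of two tuples. -/
theorem exists_form (φ : MulAut H) : ∃ c : H, (∀ s < 5, φ (g s) = c * g s * c⁻¹) ∨
    ∀ s < 5, φ (g s) = c * ev g (imgW.getD s []) * c⁻¹ := by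
  have hn : treeD.nodes.length = 19 ∧ treeD.inv.length = 211 := ⟨by decide +kernel, inv_len⟩
  obtain ⟨c, i, hi, hlen, h⟩ := Tree5.exists_node homA pts_lt det g_sq (D := treeD) rfl (fun s hs => g_ne hs)
    (fun s hs => by
      have := eq_of_same (comm_chk s (by have : actA.n = 5 := rfl; omega))
      simpa [ev] using this)
    invol cls (fun i hi hlt j hj => by
      have h17 : i < 17 := ((node_facts i hi).1).resolve_right (fun e => by
        have : actA.n = 5 := rfl
        exact absurd hlt (not_lt.2 (this.le.trans e.ge)))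
      rw [hn.2] at hj
      have := tree_ok (i * 211 + j) (by omega)
      rw [hn.2]
      exact this)
    (by omega) φ 5 (by norm_num) le_rfl
  rcases (node_facts i hi).2 hlen with rfl | rfl
  · refine ⟨c, Or.inl fun s hs => ?_⟩
    rw [h s hs, show ev g ((treeD.nodes.getD top0 []).getD s []) = ev g [s] from eq_of_same (top0_chk s hs)]
    simp [ev]
  · refine ⟨c * (ev g imgC)⁻¹, Or.inr fun s hs => ?_⟩
    have hl : ∀ t ∈ imgC, t < 5 := by decide +kernel
    have e := eq_of_same (top1_chk s hs)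
    rw [ev_append, ev_append, ev_reverse (fun s _ => g_sq s) _ hl, ← mul_assoc] at e
    rw [h s hs, ← e]
    show c * ev g ((nodeW.getD top1 []).getD s []) * c⁻¹ = _
    group

/-- A permutation normalising the group. -/
noncomputable def sigF (p : ℕ) : ℕ := sigT.at p

theorem sig_chk : ∀ p < 275, sigF p < 275 ∧ sigF (sigF p) = p ∧
    ((List.range 5).all fun s => Nat.beq (sigF (actA.im p s)) (actA.go (imgW.getD s []) (sigF p))) = true := by
  decide +kernel

theorem sig_moves : sigF 0 ≠ 0 ∨ sigF 1 ≠ 1 ∨ sigF 2 ≠ 2 := by decide +kernel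

theorem sig_fix : ∀ p ∈ ptsA, sigF p = p := by decide +kernel

/-- The permutation. -/
noncomputable def sigma : Equiv.Perm (Fin actA.N) where
  toFun p := ⟨sigF p, (sig_chk p p.2).1⟩
  invFun p := ⟨sigF p, (sig_chk p p.2).1⟩
  left_inv p := Fin.ext (sig_chk p p.2).2.1
  right_inv p := Fin.ext (sig_chk p p.2).2.1

theorem sigma_conj {s : ℕ} (hs : s < 5) : sigma * pi (g s) * sigma⁻¹ = pi (ev g (imgW.getD s [])) := by
  rw [mul_inv_eq_iff_eq_mul]
  refine Equiv.ext fun p => Fin.ext ?_
  have h := List.all_eq_true.1 (sig_chk p p.2).2.2 s (List.mem_range.2 hs)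
  have hl : ∀ t ∈ imgW.getD s [], t < 5 := by
    have hb : ∀ k < 5, ∀ t ∈ imgW.getD k [], t < 5 := by decide +kernel
    exact hb s hs
  rw [Equiv.Perm.mul_apply, Equiv.Perm.mul_apply, homA.apply_ev _ hl, homA.gen]
  show sigF (actA.perm s p : ℕ) = _
  rw [actA.perm_apply act_inv hs]
  exact Nat.eq_of_beq_eq_true h

theorem exists_psi : ∃ ψ : MulAut H, ∀ y, pi (ψ y) = sigma * pi y * sigma⁻¹ := by
  let f : H →* Equiv.Perm (Fin actA.N) := (MulAut.conj sigma).toMonoidHom.comp pi
  have hf : ∀ y, f y ∈ pi.range := by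
    intro y
    have hy : y ∈ Subgroup.closure {x | ∃ s < 5, g s = x} := g_gen ▸ Subgroup.mem_top y
    induction hy using Subgroup.closure_induction with
    | mem y hy =>
      obtain ⟨s, hs, rfl⟩ := hy
      exact ⟨_, (sigma_conj hs).symm⟩
    | one => rw [map_one]; exact one_mem _
    | mul a b _ _ ha hb => rw [map_mul]; exact mul_mem ha hb
    | inv a _ ha => rw [map_inv]; exact inv_mem ha
  let e := MonoidHom.ofInjective (f := pi) pi_injective
  let ψ0 : H →* H := e.symm.toMonoidHom.comp (f.codRestrict pi.range hf)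
  have hψ : ∀ y, pi (ψ0 y) = f y := fun y => by
    show pi (e.symm ⟨f y, hf y⟩) = f y
    exact congrArg Subtype.val (e.apply_symm_apply ⟨f y, hf y⟩)
  have hinj : Function.Injective ψ0 := fun a b hab => by
    have := congrArg pi hab
    rw [hψ, hψ] at this
    exact pi_injective ((MulAut.conj sigma).injective this)
  exact ⟨MulEquiv.ofBijective ψ0 (Finite.injective_iff_bijective.1 hinj), fun y => hψ y⟩

theorem moves_chk : ∀ p < 275, (Nat.beq p 4 || o1W.any fun w => !(Nat.beq (actA.go w p) p)) = true := by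
  decide +kernel

theorem o1_lt : ∀ w ∈ o1W, ∀ t ∈ w, t < 5 := by decide +kernel

theorem not_inner {ψ : MulAut H} (hψ : ∀ y, pi (ψ y) = sigma * pi y * sigma⁻¹) : ψ ∉ Cfsg.Inn H := by
  rintro ⟨c, rfl⟩
  set τ := (pi c)⁻¹ * sigma with hτ
  have hcomm : ∀ y, τ * pi y = pi y * τ := fun y => by
    have e := hψ y
    rw [MulAut.conj_apply, map_mul, map_mul, map_inv] at e
    rw [eq_mul_inv_iff_mul_eq] at e
    rw [hτ, mul_assoc, ← e]
    group
  have hfix : τ base0 = base0 := by
    have h := moves_chk _ (τ base0).2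
    rw [Bool.or_eq_true, List.any_eq_true] at h
    rcases h with h | ⟨w, hw, h⟩
    · exact Fin.ext (Nat.eq_of_beq_eq_true h)
    · exfalso
      have hm : ev g w ∈ stab pi base0 := stab_val ▸ mem_val hw
      have e : pi (ev g w) (τ base0) = τ base0 := by
        rw [← Equiv.Perm.mul_apply, ← hcomm, Equiv.Perm.mul_apply, mem_stab.1 hm]
      rw [← homA.apply_ev w (o1_lt w hw), e, Nat.beq_refl] at h
      exact Bool.noConfusion h
  have hone : τ = 1 := Equiv.ext fun p => by
    obtain ⟨y, hy⟩ := trA p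
    rw [← hy, ← Equiv.Perm.mul_apply, hcomm, Equiv.Perm.mul_apply, hfix, Equiv.Perm.one_apply]
  have hs : sigma = pi c := by rwa [hτ, inv_mul_eq_one, eq_comm] at hone
  have hc : c = 1 := det c fun q hq => by
    rw [← hs]
    exact Fin.ext (sig_fix q hq)
  rw [hc, map_one] at hs
  have mv : ∀ p : Fin actA.N, sigF p = p := fun p => congrArg Fin.val (Equiv.ext_iff.1 hs p)
  rcases sig_moves with h | h | h
  exacts [h (mv ⟨0, by decide⟩), h (mv ⟨1, by decide⟩), h (mv ⟨2, by decide⟩)]

theorem ext_aut {φ ψ : MulAut H} (h : ∀ s < 5, φ (g s) = ψ (g s)) : φ = ψ := by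
  refine MulEquiv.toMonoidHom_injective (MonoidHom.eq_of_eqOn_dense g_gen ?_)
  rintro _ ⟨s, hs, rfl⟩
  exact h s hs

theorem card_out : Nat.card (Cfsg.Out H) = 2 := by
  obtain ⟨ψ, hψ⟩ := exists_psi
  refine card_out_eq_two ψ (not_inner hψ) fun φ => ?_
  obtain ⟨c, h | h⟩ := exists_form φ
  · exact Or.inl ⟨c, ext_aut fun s hs => (h s hs).symm⟩
  · refine Or.inr ⟨c, ?_⟩
    rw [eq_mul_inv_iff_mul_eq]
    refine ext_aut fun s hs => ?_
    rw [MulAut.mul_apply, h s hs, MulAut.conj_apply,
      show ψ (g s) = ev g (imgW.getD s []) from pi_injective ((hψ _).trans (sigma_conj hs))]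

end Cfsg.Agent.Spor.Cos.McLOut
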