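import Cfsg.Agent.Lib.Spor.Cos.McLOut.Defs

/-! Data and checks for the automorphisms of a group on 275 points. -/

set_option autoImplicit false
set_option maxRecDepth 100000
set_option maxHeartbeats 4000000

namespace Cfsg.Agent.Spor.Cos.McLOut

open Triple

theorem syl_b0 : allBlock (chkSyl) 128 32 0 = true := by decide +kernel

theorem syl_b1 : allBlock (chkSyl) 128 32 1 = true := by decide +kernel

theorem syl_b2 : allBlock (chkSyl) 128 32 2 = true := by decide +kernel

theorem syl_b3 : allBlock (chkSyl) 128 32 3 = true := by decide +kernel


end Cfsg.Agent.Spor.Cos.McLOut
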